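import Cfsg.Agent.H10.Fi23T.G6.RChk0

set_option autoImplicit false
set_option linter.all false

namespace Cfsg.Agent.H10.Fi23T

open Cfsg.Agent.H35 Cfsg.Spor

theorem g6_rall : ∀ p, p < 135 → g6_rf p = true := by
  apply allR_blocks g6_rf 135 10 1 _ (by decide)
  intro k hk
  interval_cases k
  · exact g6_rchk_0

theorem g6_circ_ok : circChk (fullW g6_rws g6_prels) g6_circT 0 g6_ccert = true := by decide +kernel
theorem g6_hc_ok : allR (fun c => hcChk g6_rsw g6_hc1T g6_hc2T c) 5 3 0 = true := by decide +kernel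
theorem g6_h0 : RData.aord (g6_rd.ent 0 1) = 0 := by decide +kernel

end Cfsg.Agent.H10.Fi23T
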